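import Cfsg.Agent.Lib.Helper37.SUSmall.Frame3

set_option autoImplicit false

/-! # SU_3(5): orthogonal frames of ternary forms over `ZMod 5`, slice of the finite check -/

namespace Cfsg.Agent.Lib.Helper60.SU3

open Cfsg.Agent.Lib.Helper37.SUSmall

set_option maxRecDepth 1000000 in
theorem frame5_3_0 : ∀ c d e f : ZMod 5, dt 3 0 c d e f ≠ 0 →
    ∃ x0 x1 x2 : ZMod 5, bl 3 0 c d e f x0 x1 x2 x0 x1 x2 = dt 3 0 c d e f ∧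
    ∃ y0 y1 y2 : ZMod 5, bl 3 0 c d e f x0 x1 x2 y0 y1 y2 = 0 ∧
      bl 3 0 c d e f y0 y1 y2 y0 y1 y2 = dt 3 0 c d e f ∧
    ∃ z0 z1 z2 : ZMod 5, bl 3 0 c d e f x0 x1 x2 z0 z1 z2 = 0 ∧
      bl 3 0 c d e f y0 y1 y2 z0 z1 z2 = 0 ∧
      bl 3 0 c d e f z0 z1 z2 z0 z1 z2 = dt 3 0 c d e f := by
  decide +kernel

set_option maxRecDepth 1000000 in
theorem frame5_3_1 : ∀ c d e f : ZMod 5, dt 3 1 c d e f ≠ 0 →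
    ∃ x0 x1 x2 : ZMod 5, bl 3 1 c d e f x0 x1 x2 x0 x1 x2 = dt 3 1 c d e f ∧
    ∃ y0 y1 y2 : ZMod 5, bl 3 1 c d e f x0 x1 x2 y0 y1 y2 = 0 ∧
      bl 3 1 c d e f y0 y1 y2 y0 y1 y2 = dt 3 1 c d e f ∧
    ∃ z0 z1 z2 : ZMod 5, bl 3 1 c d e f x0 x1 x2 z0 z1 z2 = 0 ∧
      bl 3 1 c d e f y0 y1 y2 z0 z1 z2 = 0 ∧
      bl 3 1 c d e f z0 z1 z2 z0 z1 z2 = dt 3 1 c d e f := by
  decide +kernel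

set_option maxRecDepth 1000000 in
theorem frame5_3_2 : ∀ c d e f : ZMod 5, dt 3 2 c d e f ≠ 0 →
    ∃ x0 x1 x2 : ZMod 5, bl 3 2 c d e f x0 x1 x2 x0 x1 x2 = dt 3 2 c d e f ∧
    ∃ y0 y1 y2 : ZMod 5, bl 3 2 c d e f x0 x1 x2 y0 y1 y2 = 0 ∧
      bl 3 2 c d e f y0 y1 y2 y0 y1 y2 = dt 3 2 c d e f ∧
    ∃ z0 z1 z2 : ZMod 5, bl 3 2 c d e f x0 x1 x2 z0 z1 z2 = 0 ∧
      bl 3 2 c d e f y0 y1 y2 z0 z1 z2 = 0 ∧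
      bl 3 2 c d e f z0 z1 z2 z0 z1 z2 = dt 3 2 c d e f := by
  decide +kernel

set_option maxRecDepth 1000000 in
theorem frame5_3_3 : ∀ c d e f : ZMod 5, dt 3 3 c d e f ≠ 0 →
    ∃ x0 x1 x2 : ZMod 5, bl 3 3 c d e f x0 x1 x2 x0 x1 x2 = dt 3 3 c d e f ∧
    ∃ y0 y1 y2 : ZMod 5, bl 3 3 c d e f x0 x1 x2 y0 y1 y2 = 0 ∧
      bl 3 3 c d e f y0 y1 y2 y0 y1 y2 = dt 3 3 c d e f ∧
    ∃ z0 z1 z2 : ZMod 5, bl 3 3 c d e f x0 x1 x2 z0 z1 z2 = 0 ∧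
      bl 3 3 c d e f y0 y1 y2 z0 z1 z2 = 0 ∧
      bl 3 3 c d e f z0 z1 z2 z0 z1 z2 = dt 3 3 c d e f := by
  decide +kernel

set_option maxRecDepth 1000000 in
theorem frame5_3_4 : ∀ c d e f : ZMod 5, dt 3 4 c d e f ≠ 0 →
    ∃ x0 x1 x2 : ZMod 5, bl 3 4 c d e f x0 x1 x2 x0 x1 x2 = dt 3 4 c d e f ∧
    ∃ y0 y1 y2 : ZMod 5, bl 3 4 c d e f x0 x1 x2 y0 y1 y2 = 0 ∧
      bl 3 4 c d e f y0 y1 y2 y0 y1 y2 = dt 3 4 c d e f ∧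
    ∃ z0 z1 z2 : ZMod 5, bl 3 4 c d e f x0 x1 x2 z0 z1 z2 = 0 ∧
      bl 3 4 c d e f y0 y1 y2 z0 z1 z2 = 0 ∧
      bl 3 4 c d e f z0 z1 z2 z0 z1 z2 = dt 3 4 c d e f := by
  decide +kernel

end Cfsg.Agent.Lib.Helper60.SU3
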